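import Groth.Agent.AffCompl.Section
import Groth.Agent.AmpleX.FiniteTwist
import Groth.Agent.AmpleX.Separated
import Groth.Agent.AssPtX.Basic
import Groth.Agent.AssPtX.Noeth
import Groth.Agent.H23.InvStalk
import Mathlib

/-!
# Invertible modules as differences of effective Cartier divisors avoiding finitely many points
-/

set_option autoImplicit false
set_option linter.style.haveILetI false
set_option backward.isDefEq.respectTransparency false
set_option backward.isDefEq.respectTransparency.types false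
set_option maxHeartbeats 800000

universe u

open CategoryTheory CategoryTheory.Limits AlgebraicGeometry TopologicalSpace
open Groth.Agent.H23.PicMul
open scoped Groth.Agent.H23.PicMul

noncomputable section

namespace Groth.Agent.DiffCartier

variable {X : Scheme.{u}}

/-- The divisor of a section invertible at the associated points. -/
theorem exists_divisor_of_regular_section [IsLocallyNoetherian X] {L : X.Modules} (hL : PicF.IsInvertible L)
    (s : Coh.structureModule X ⟶ L)
    (hs : ∀ x : X, Curv2.IsWeakAssPoint (Coh.structureModule X) x → x ∈ CohB1.genLocus L s) :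
    ∃ I : X.IdealSheafData, BlowUp.IsEffCartierIdeal I ∧ ClSub.IsInverseOf L (ClSub.idealMod I) ∧
      (I.support : Set X) = ((CohB1.genLocus L s : X.Opens) : Set X)ᶜ := by
  obtain ⟨D, hD, ⟨eD⟩⟩ := H23.PicInv.exists_inverse hL
  obtain ⟨c⟩ : Nonempty ((DCoh.tensorBi.obj D).obj L ≅ Coh.structureModule X) := cl_eq_iff.1 (by
    show PicF.cl (CohB1.tensorMod D L) = _
    rw [cl_tensor, mul_comm, ← cl_tensor]
    exact cl_eq_iff.2 ⟨eD⟩)
  let ψ : D ⟶ Coh.structureModule X :=
    (KFlatLib.tensorUnitIso D).inv ≫ (DCoh.tensorBi.obj D).map s ≫ c.hom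
  haveI := DepthTwist.isEquivalence_tensorLeft hD
  haveI : Mono s := by
    refine AssPtX.mono_of_stalk s (CurveDeg.isCoh_of_isInvertible InvX.isInvertible_structureModule).1 fun x => ?_
    by_cases hx : x ∈ CohB1.genLocus L s
    · refine Or.inl ?_
      have hsur := (DepthTwist.surjective_stalk_iff hL s x).2 hx
      obtain ⟨e₁⟩ := H23.InvStalk.exists_stalk_equiv (InvX.isInvertible_structureModule (X := X)) x
      obtain ⟨e₂⟩ := H23.InvStalk.exists_stalk_equiv hL x
      let φ : X.presheaf.stalk x →ₗ[X.presheaf.stalk x] X.presheaf.stalk x :=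
        e₂.toLinearMap ∘ₗ ((DerSch.stalkFunctor X x).map s).hom ∘ₗ e₁.symm.toLinearMap
      have hφ : Function.Injective φ := OrzechProperty.injective_of_surjective_endomorphism φ
        (e₂.surjective.comp (hsur.comp e₁.symm.surjective))
      intro a b hab
      refine e₁.injective (hφ ?_)
      show e₂ (((DerSch.stalkFunctor X x).map s).hom (e₁.symm (e₁ a))) =
        e₂ (((DerSch.stalkFunctor X x).map s).hom (e₁.symm (e₁ b)))
      rw [e₁.symm_apply_apply, e₁.symm_apply_apply]
      exact congrArg e₂ hab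
    · exact Or.inr fun h => hx (hs x h)
  haveI : Mono ψ := mono_comp _ _
  obtain ⟨I, ε, hε⟩ := IdealSub.exists_iso_idealMod (CurveDeg.isCoh_of_isInvertible hD).1 ψ
  have hI := isInvertible_of_iso ε hD
  refine ⟨I, (S8914.result I).1 hI,
    ⟨((DCoh.tensorBi (X := X)).obj L).mapIso ε.symm ≪≫ eD⟩, Set.ext fun x => ?_⟩
  have hψ : Function.Surjective ((DerSch.stalkFunctor X x).map ψ) ↔ x ∈ CohB1.genLocus L s := by
    obtain ⟨e⟩ := H23.InvStalk.exists_stalk_equiv hD x
    rw [← DepthTwist.surjective_stalk_iff hL s x, ← H23.InvStalk.stalk_tensor_map_surjective_iff s x e]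
    have ha := ConcreteCategory.bijective_of_isIso ((DerSch.stalkFunctor X x).map c.hom)
    have hb := ConcreteCategory.bijective_of_isIso ((DerSch.stalkFunctor X x).map (KFlatLib.tensorUnitIso D).inv)
    simp only [ψ, Functor.map_comp]
    exact (Function.Surjective.of_comp_iff _ hb.2).trans (Function.Surjective.of_comp_iff' ha _)
  rw [Set.mem_compl_iff, SetLike.mem_coe, SetLike.mem_coe, ← hψ, ← hε, Functor.map_comp]
  have he := ConcreteCategory.bijective_of_isIso ((DerSch.stalkFunctor X x).map ε.hom)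
  refine Iff.trans ?_ (not_congr (Function.Surjective.of_comp_iff _ he.2)).symm
  exact ⟨fun hx => GenusOneX.not_surjective_stalk_idealModι I hI hx,
    fun hx => by_contra fun hx' => hx (S17351.surjective_idealModι I hx')⟩

theorem exists_difference [AlgebraicGeometry.IsNoetherian X] (L : X.Modules) (hL : CohB1.IsAmple L)
    (N : X.Modules) (hN : PicF.IsInvertible N) (E : Set X) (hE : E.Finite) :
    ∃ D D' : X.IdealSheafData, BlowUp.IsEffCartierIdeal D ∧ BlowUp.IsEffCartierIdeal D' ∧
      Disjoint E (D.support : Set X) ∧ Disjoint E (D'.support : Set X) ∧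
      Nonempty (CohB1.tensorMod N (ClSub.idealMod D) ≅ ClSub.idealMod D') := by
  haveI := AmpleX.isSeparated_of_isAmple hL
  obtain ⟨M, hM, ⟨eM⟩⟩ := H23.PicInv.exists_inverse hN
  have hA : {x : X | Curv2.IsWeakAssPoint (Coh.structureModule X) x}.Finite :=
    (AssPtX.finite_assPoints (X := X) (F := Coh.structureModule X)
      (CurveDeg.isCoh_of_isInvertible InvX.isInvertible_structureModule) (U := ⊤) isCompact_univ).subset
      fun x hx => ⟨trivial, AssPtX.isAssPoint_iff.2 hx⟩
  have hL' : PicF.IsInvertible L := hL.1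
  obtain ⟨n, s₁, hs₁, -, -⟩ := AmpleX.exists_finite_nhd hL (hE.union hA) (U := ⊤) (Set.subset_univ _)
  obtain ⟨n₂, h₂⟩ := AmpleX.exists_twist_generating_at hL hM (hE.union hA)
  obtain ⟨s₂, hs₂⟩ := h₂ (n + 1) n.succ_pos
  have h1 := InvX.isInvertible_tensorPow hL' (n + 1)
  let B₁ := CohB1.tensorPow (CohB1.tensorPow L (n + 1)) (n₂ + 1)
  let t₁ : Coh.structureModule X ⟶ B₁ := InvX.powHom s₁ (n₂ + 1)
  have ht₁ := InvX.genLocus_powHom h1 s₁ n₂
  let B₂ := CohB1.tensorMod (CohB1.tensorMod M (CohB1.tensorPow L ((n + 1) * n₂))) (CohB1.tensorPow L (n + 1))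
  have h2 : PicF.IsInvertible (CohB1.tensorMod M (CohB1.tensorPow L ((n + 1) * n₂))) :=
    InvX.isInvertible_tensorMod hM (InvX.isInvertible_tensorPow hL' _)
  let t₂ : Coh.structureModule X ⟶ B₂ := InvX.mulHom s₂ s₁
  have ht₂ := InvX.genLocus_mulHom h2 h1 s₂ s₁
  obtain ⟨D, hD, ⟨eD⟩, hDs⟩ := exists_divisor_of_regular_section (InvX.isInvertible_tensorPow h1 _) t₁
    fun x hx => by rw [ht₁]; exact hs₁ (Or.inr hx)
  obtain ⟨D', hD', ⟨eD'⟩, hDs'⟩ := exists_divisor_of_regular_section (InvX.isInvertible_tensorMod h2 h1) t₂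
    fun x hx => by rw [ht₂]; exact ⟨hs₂ (Or.inr hx), hs₁ (Or.inr hx)⟩
  refine ⟨D, D', hD, hD', Set.disjoint_left.2 fun x hx hxD => ?_, Set.disjoint_left.2 fun x hx hxD => ?_, ?_⟩
  · rw [hDs, Set.mem_compl_iff, SetLike.mem_coe, ht₁] at hxD
    exact hxD (hs₁ (Or.inl hx))
  · rw [hDs', Set.mem_compl_iff, SetLike.mem_coe, ht₂] at hxD
    exact hxD ⟨hs₂ (Or.inl hx), hs₁ (Or.inl hx)⟩
  · have e0 := cl_eq_iff.2 ⟨eM⟩
    have e1 := cl_eq_iff.2 ⟨eD⟩
    have e2 := cl_eq_iff.2 ⟨eD'⟩
    simp only [cl_tensor, cl_tensorPow, ← one_def] at e0 e1 e2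
    refine cl_eq_iff.1 ?_
    rw [cl_tensor]
    set a := PicF.cl L
    calc PicF.cl N * PicF.cl (ClSub.idealMod D)
        = PicF.cl N * PicF.cl (ClSub.idealMod D) * (PicF.cl M * a ^ ((n + 1) * n₂) * a ^ (n + 1) * PicF.cl (ClSub.idealMod D')) := by
          rw [e2, mul_one]
      _ = (PicF.cl N * PicF.cl M) * ((a ^ (n + 1)) ^ (n₂ + 1) * PicF.cl (ClSub.idealMod D)) * PicF.cl (ClSub.idealMod D') := by
          rw [← pow_mul, mul_add (n + 1) n₂ 1, mul_one, pow_add a ((n + 1) * n₂)]; ac_rfl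
      _ = PicF.cl (ClSub.idealMod D') := by rw [e0, e1, one_mul, one_mul]

end Groth.Agent.DiffCartier
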